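import Cfsg.Agent.JX.C1
import Cfsg.Agent.H2.Hup3
import Cfsg.Agent.H9.EAMod
import Cfsg.Agent.H12.Transport

/-! Solvable groups with a normal elementary abelian Sylow subgroup: semilinear coordinates. -/

set_option autoImplicit false

namespace Cfsg.Agent.JX

open Subgroup MulAction Cfsg.Agent.H20 Cfsg.Agent.H21 Cfsg.Agent.H9 Cfsg.Agent.H2.Pm

variable {G : Type*} [Group G] [Finite G] {P : Subgroup G} {p : ℕ} {F : Type*} [Field F] {τ : F → G}

theorem normal_sylow {q m : ℕ} [Fact q.Prime] (h : Nat.card G = q * m) (hm : ¬ q ∣ m)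
    (h1 : ∀ d, d ∣ m → d ≡ 1 [MOD q] → d = 1) : ∃ S : Subgroup G, S.Normal ∧ ♯S = q := by
  obtain ⟨S⟩ : Nonempty (Sylow q G) := inferInstance
  have h2 := H19.card_sylow_of_prime_mul q m h hm S
  have h3 := (S : Subgroup G).card_mul_index
  rw [h2, h] at h3
  haveI := (Nat.card_eq_one_iff_unique.1 (h1 _ (Nat.eq_of_mul_eq_mul_left (Fact.out : q.Prime).pos h3 ▸
    S.card_dvd_index) (card_sylow_modEq_one q G))).1
  exact ⟨S, Sylow.normal_of_subsingleton S, h2⟩

theorem not81 {V : Type*} [AddCommGroup V] [Module (ZMod 3) V] [DistribMulAction G V]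
    [SMulCommClass G (ZMod 3) V] [FaithfulSMul G V] [Finite V] [Nontrivial V] (hs : Group.IsSolvable G)
    (h : VTrans G V) (hV : Nat.card V = 81) (h13 : 13 ∣ Nat.card G) : False := by
  haveI : Fact (Nat.Prime 5) := ⟨by norm_num⟩
  haveI : Fact (Nat.Prime 13) := ⟨by norm_num⟩
  have h1 : Module.finrank (ZMod 3) V = 4 :=
    Nat.pow_right_injective (show 2 ≤ 3 by norm_num) ((card_V (p := 3)).symm.trans hV)
  have h2 := card_dvd_GL (p := 3) (G := G) (V := V)
  rw [h1] at h2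
  obtain ⟨X, hX⟩ := H1.exists_isPiHall {5, 13} hs
  have h3 := X.card_mul_index
  have h4 : ∀ r ∈ ({5, 13} : Set ℕ), r.Prime → r ∣ Nat.card G → r ∣ ♯X := fun r h4 h5 h6 =>
    (h5.dvd_mul.1 (h3 ▸ h6)).resolve_right fun e => hX.2 r h5 h4 e
  have h5 : ♯X = 65 := Nat.dvd_antisymm (Nat.Coprime.dvd_of_dvd_mul_left (m := 2 ^ 9 * 3 ^ 6)
    (Nat.coprime_of_dvd fun r h5 h6 => by rcases hX.1 r h5 h6 with rfl | rfl <;> decide)
    (X.card_subgroup_dvd_card.trans (h2.trans (by decide))))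
    (Nat.Coprime.mul_dvd_of_dvd_of_dvd (m := 5) (n := 13) (by norm_num) (h4 5 (by simp) Fact.out
      ((by rw [hV]; decide : 5 ∣ _).trans h.card_dvd)) (h4 13 (by simp) Fact.out h13))
  obtain ⟨A, _, hA⟩ := normal_sylow (q := 5) (m := 13) h5 (by decide) fun d h6 h7 => by
    have := Nat.le_of_dvd (by decide) h6
    interval_cases d <;> simp_all +decide
  obtain ⟨B, _, hB⟩ := normal_sylow (q := 13) (m := 5) h5 (by decide) fun d h6 h7 => by
    have := Nat.le_of_dvd (by decide) h6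
    interval_cases d <;> simp_all +decide
  obtain ⟨x, hx, h6⟩ := exists_prime_order_mem (A := A) Fact.out hA.symm.dvd
  obtain ⟨y, hy, h7⟩ := exists_prime_order_mem (A := B) Fact.out hB.symm.dvd
  have h8 := commute_of_normal_of_disjoint A B ‹_› ‹_› (disjoint_iff.2 (inf_eq_bot_of_coprime
    (by rw [hA, hB]; norm_num))) x y hx hy
  have h9 := (Ppd.irr (p := 3) (V := V) (s := 5) (x := x.1) (by
    rw [h1]; exact ⟨Fact.out, by decide, fun k _ _ => by interval_cases k <;> decide⟩)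
    (by rw [orderOf_coe, h6])).2.semi.card_dvd (p := 3) (W := ⊤) fun _ _ _ _ => trivial
  have h10 := (orderOf_dvd_card_of_mem (mem_cent_zpowers.2 (congrArg Subtype.val h8.eq))).trans h9
  rw [orderOf_coe, h7, Nat.card_congr Submodule.topEquiv.toEquiv, hV] at h10
  exact absurd h10 (by decide)

/-- semilinear coordinates on `P` -/
structure Co (P : Subgroup G) (τ : F → G) : Prop where
  add : ∀ x y, τ (x + y) = τ x * τ y
  inj : Function.Injective τ
  mem : ∀ g, g ∈ P ↔ ∃ x, τ x = g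
  semi : ∀ g, ∃ (a : F) (σ : F ≃+* F), ∀ x, g * τ x * g⁻¹ = τ (a * σ x)

theorem exists_co [Fact p.Prime] [P.Normal] [Finite F] (hP : IsElementaryAbelian p P) (h0 : P ≠ ⊥)
    (hs : Group.IsSolvable G) (hC : ∀ A B : Subgroup G, ♯A = p → ♯B = p → ∃ g, B = cj g A)
    (hF : Nat.card F = ♯P) (h1 : ♯P ∉ ({9, 25, 49, 121, 529} : Set ℕ))
    (h2 : ♯P = 81 → 13 ∣ (C⟦P⟧).index) : ∃ τ : F → G, Co P τ := by
  let r := (eaRep hP (H := ⊤) (normalizer_eq_top P).ge).comp topEquiv.symm.toMonoidHom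
  let ρ := (r.noncommCoprod ((algebraMap (ZMod p) (Module.End (ZMod p) (EAMod hP))).toMonoidHom.comp
    (Units.coeHom _)) fun a b => (Algebra.commutes b.1 (r a)).symm).toHomUnits
  haveI : Nontrivial (EAMod hP) := (nontrivial_iff_ne_bot P).2 h0
  have hρ : ∀ (g : G) (c : (ZMod p)ˣ) (v : EAMod hP),
      ((⟨ρ (g, c), _, rfl⟩ : ρ.range) • v).val = g * (c.1 • v).val * g⁻¹ := fun _ _ _ => rfl
  haveI : Finite ρ.range := Finite.of_surjective _ ρ.rangeRestrict_surjective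
  have h3 : Group.IsSolvable ρ.range := solvable_of_surjective ρ.rangeRestrict_surjective
  have h4 : VTrans ρ.range (EAMod hP) := fun v w hv hw => by
    have k : ∀ v : EAMod hP, v ≠ 0 → ♯(zpowers v.val) = p := fun v hv => by
      rw [Nat.card_zpowers, orderOf_eq_prime (hP.2 _ v.val_mem) (mt EAMod.val_eq_one_iff.1 hv)]
    obtain ⟨g, hg⟩ := hC _ _ (k v hv) (k w hw)
    obtain ⟨u, h4, h5⟩ := mem_cj'.1 (hg.le (mem_zpowers _))
    obtain ⟨i, rfl⟩ := mem_powers_iff_mem_zpowers.2 h4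
    simp only [← EAMod.val_natCast_smul] at h5
    exact ⟨_, EAMod.ext' ((hρ g (Units.mk0 i fun e => hw (EAMod.ext' (by simp [← h5, e]))) v).trans h5)⟩
  by_cases h5 : NoAb p ρ.range (EAMod hP)
  · have h6 : ♯P = 81 := by
      have := huppert h3 h4 h5
      rw [EAMod.card_eq] at this
      simp only [Set.mem_insert_iff, Set.mem_singleton_iff] at this h1
      omega
    obtain rfl : p = 3 := (Nat.prime_dvd_prime_iff_eq Fact.out Nat.prime_three).1
      ((Fact.out : p.Prime).dvd_of_dvd_pow (n := 4) (h6 ▸ H21.dvd_card_of_isPGroup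
        (fun x => ⟨1, Subtype.ext (by simpa using hP.2 x x.2)⟩) h0 : p ∣ 81))
    refine (not81 h3 h4 h6 ((h2 h6).trans ?_)).elim
    rw [show C⟦P⟧ = (ρ.comp (MonoidHom.inl _ _)).ker from Subgroup.ext fun g => by
      rw [MonoidHom.mem_ker, ← Units.val_inj]
      simpa [ρ, r] using (eaRep_eq_one_iff (hH := (normalizer_eq_top P).ge) (topEquiv.symm g)).symm, index_ker]
    exact card_dvd_of_le (by rintro _ ⟨g, rfl⟩; exact ⟨_, rfl⟩)
  simp only [NoAb, not_forall, not_not] at h5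
  obtain ⟨A, _, h5, h6⟩ := h5
  obtain ⟨K, _, _, e, he⟩ := h6.gam1 h5
  obtain ⟨φ⟩ := H12.nonempty_ringEquiv_of_natCard_eq (F := F) (K := K)
    (hF.trans (Nat.card_congr e.toEquiv))
  refine ⟨fun x => (e.symm (φ x)).val, fun x y => by simp,
    EAMod.val_injective.comp (e.symm.injective.comp φ.injective),
    fun g => ⟨fun hg => ⟨φ.symm (e (EAMod.mk hP g hg)), by simp⟩, by
      rintro ⟨x, rfl⟩; exact EAMod.val_mem _⟩, fun g => ?_⟩
  obtain ⟨a, σ, h7⟩ := he ⟨ρ (g, 1), _, rfl⟩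
  refine ⟨φ.symm a, φ.trans (σ.trans φ.symm), fun x => ?_⟩
  have h8 := hρ g 1 (e.symm (φ x))
  rw [← e.symm_apply_apply (_ • _), h7] at h8
  simpa using h8.symm

open Classical in
theorem card_pairs [hp : Fact p.Prime] (hP : ∀ x ∈ P, x ^ p = 1) [Fintype G] :
    (Finset.univ.filter fun q : G × G => q.1 ∈ P ∧ q.1 ≠ 1 ∧ q.2 ∈ P ∧ q.2 ∉ zpowers q.1).card =
      (♯P - 1) * (♯P - p) := by
  have k : ∀ Q ≤ P, (Finset.univ.filter fun x => x ∈ P ∧ x ∉ Q).card = ♯P - ♯Q := fun Q hQ => by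
    rw [← Set.ncard_coe_finset, ← SetLike.coe_sort_coe, ← SetLike.coe_sort_coe, Nat.card_coe_set_eq,
      Nat.card_coe_set_eq, ← Set.ncard_diff hQ]
    congr 1; ext; simp
  rw [Finset.card_eq_sum_card_fiberwise (f := Prod.fst)
    (t := Finset.univ.filter fun x => x ∈ P ∧ x ∉ (⊥ : Subgroup G)) fun q hq => by simp_all,
    Finset.sum_const_nat (m := ♯P - p) fun x hx => ?_, k ⊥ bot_le, card_bot]
  simp only [Finset.mem_filter, mem_bot, Finset.mem_univ, true_and] at hx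
  rw [← orderOf_eq_prime (hP x hx.1) hx.2, ← Nat.card_zpowers, ← k _ (zpowers_le.2 hx.1)]
  refine Finset.card_bij (fun q _ => q.2) (by simp +contextual; grind) (by simp +contextual)
    fun y hy => ⟨(x, y), by simp_all, rfl⟩

open Classical Pointwise in
theorem dvd13 (hP : IsElementaryAbelian 3 P) [P.Normal] (h : ♯P = 81)
    (hC : ∀ A B : Subgroup G, ♯A = 3 ^ 2 → ♯B = 3 ^ 2 → ∃ g, B = cj g A) : 13 ∣ (C⟦P⟧).index := by
  haveI := Fintype.ofFinite G
  haveI := Fintype.ofFinite (Subgroup G)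
  have h1 := card_pairs hP.2
  have k : ∀ {v w : G}, v ∈ P → v ≠ 1 → w ∈ P → w ∉ zpowers v → ♯(zpowers v ⊔ zpowers w) = 3 ^ 2 :=
    fun hv h2 hw h3 => (H25.sup_zpowers_sq (orderOf_eq_prime (hP.2 _ hv) h2) (hP.2 _ hw)
      (congrArg Subtype.val (hP.1.is_comm.comm ⟨_, hv⟩ ⟨_, hw⟩)) h3).1
  rw [Finset.card_eq_sum_card_fiberwise (f := fun q => zpowers q.1 ⊔ zpowers q.2)
    (t := Finset.univ.filter fun W => W ≤ P ∧ ♯W = 3 ^ 2) fun q hq => by
      simp only [Finset.coe_filter, Finset.mem_univ, true_and, Set.mem_setOf] at hq ⊢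
      exact ⟨sup_le (zpowers_le.2 hq.1) (zpowers_le.2 hq.2.2.1), k hq.1 hq.2.1 hq.2.2.1 hq.2.2.2⟩,
    Finset.sum_const_nat (m := 48) fun W hW => ?_, h] at h1
  · obtain ⟨W, hW⟩ := Finset.card_pos.1 (Nat.pos_of_ne_zero fun e => by rw [e] at h1; omega)
    simp only [Finset.mem_filter, Finset.mem_univ, true_and] at hW
    have h2 := index_stabilizer (ConjAct G) W
    rw [show orbit (ConjAct G) W = ↑(Finset.univ.filter fun W => W ≤ P ∧ ♯W = 3 ^ 2) from
      Set.ext fun V => ⟨by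
        rintro ⟨g, rfl⟩
        exact Finset.mem_filter.2 ⟨Finset.mem_univ _, (pointwise_smul_le_pointwise_smul_iff.2 hW.1).trans
          (Normal.conjAct ‹_› g).le, (card_cj g W).trans hW.2⟩, fun hV => by
        obtain ⟨g, rfl⟩ := hC W V hW.2 (Finset.mem_filter.1 hV).2.2
        exact ⟨g, rfl⟩⟩, Set.ncard_coe_finset] at h2
    refine (show 13 ∣ (stabilizer (ConjAct G) W).index by omega).trans
      (index_dvd_of_le (H := (C⟦P⟧ : Subgroup G)) fun g hg => ?_)
    exact cj_eq_of_mem_norm (cent_le_norm _ (centralizer_le hW.1 hg))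
  · simp only [Finset.mem_filter, Finset.mem_univ, true_and] at hW
    have h2 := card_pairs fun x hx => hP.2 x (hW.1 hx)
    rw [hW.2] at h2
    refine Eq.trans (congrArg _ (Finset.ext fun q => ?_)) h2
    simp only [Finset.mem_filter, Finset.mem_univ, true_and]
    refine ⟨fun ⟨h3, h4⟩ => ⟨h4.le (mem_sup_left (mem_zpowers _)), h3.2.1,
      h4.le (mem_sup_right (mem_zpowers _)), h3.2.2.2⟩, fun h3 => ⟨⟨hW.1 h3.1, h3.2.1, hW.1 h3.2.2.1,
      h3.2.2.2⟩, eq_of_le_of_card_ge (sup_le (zpowers_le.2 h3.1) (zpowers_le.2 h3.2.2.1)) ?_⟩⟩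
    rw [hW.2, k (hW.1 h3.1) h3.2.1 (hW.1 h3.2.2.1) h3.2.2.2]

namespace Co

variable (h : Co P τ)
include h

omit [Finite G] in
theorem zero : τ 0 = 1 := by simpa using h.add 0 0

omit [Finite G] in
theorem ne {g : G} {a : F} {σ : F ≃+* F} (e : ∀ x, g * τ x * g⁻¹ = τ (a * σ x)) : a ≠ 0 := fun e' =>
  one_ne_zero (h.inj ((by simpa [e', h.zero] using e 1 : τ 1 = 1).trans h.zero.symm))

omit [Finite G] in
theorem emb {H : Subgroup G} (hH : IsComplement' P H) (hc : H.normalCore = ⊥) :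
    ∃ f : G →* Equiv.Perm F, Function.Injective f ∧ (∀ c x, f (τ c) x = c + x) ∧
      ∀ g a (σ : F ≃+* F), (∀ x, g * τ x * g⁻¹ = τ (a * σ x)) → ∃ c, ∀ x, f g x = a * σ x + c := by
  have k : ∀ g : G, ∃ c, (τ c : G ⧸ H) = g := fun g => by
    obtain ⟨⟨u, k⟩, rfl⟩ := hH.2 g
    obtain ⟨c, hc⟩ := (h.mem _).1 u.2
    exact ⟨c, QuotientGroup.eq.2 (by simp [hc])⟩
  let e : F ≃ G ⧸ H := Equiv.ofBijective (fun x => τ x) ⟨fun x y e => h.inj (inv_mul_eq_one.1
    (disjoint_def.1 hH.disjoint (mul_mem (inv_mem ((h.mem _).2 ⟨x, rfl⟩)) ((h.mem _).2 ⟨y, rfl⟩))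
      (QuotientGroup.eq.1 e))), fun g => QuotientGroup.induction_on g k⟩
  refine ⟨e.symm.permCongrHom.toMonoidHom.comp (toPermHom G (G ⧸ H)),
    e.symm.permCongrHom.injective.comp ((MonoidHom.ker_eq_bot_iff _).1 (normalCore_eq_ker H ▸ hc)),
    fun c x => e.symm_apply_eq.2 (congrArg _ (h.add c x).symm), fun g a σ hg => ?_⟩
  obtain ⟨c, hc⟩ := k g
  refine ⟨c, fun x => e.symm_apply_eq.2 ?_⟩
  change ((g * τ x : G) : G ⧸ H) = τ _
  rw [h.add, ← hg, QuotientGroup.eq]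
  simpa [mul_assoc] using QuotientGroup.eq.1 hc.symm

open Classical in
theorem two [Fintype F] {n : ℕ} (hF : Fintype.card F = 2 ^ n) (hn : n = 3 ∨ n = 5)
    (hC : ∀ A B : Subgroup G, ♯A = 2 → ♯B = 2 → ∃ g, B = cj g A) {f : G →* Equiv.Perm F}
    (h1 : Function.Injective f) (h2 : ∀ c x, f (τ c) x = c + x) (h3 : ∀ g a (σ : F ≃+* F),
      (∀ x, g * τ x * g⁻¹ = τ (a * σ x)) → ∃ c, ∀ x, f g x = a * σ x + c) :
    Nonempty (G ≃* semiaffineGroup F) ∨ (Nonempty (G ≃* affineGroup F) ∧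
      ∀ g a (σ : F ≃+* F), (∀ x, g * τ x * g⁻¹ = τ (a * σ x)) → σ = 1) := by
  haveI := H28.charP_of_card hF
  have k1 : ∀ x ≠ 0, orderOf (τ x) = 2 := fun x hx => orderOf_eq_prime
    (by rw [pow_two, ← h.add, CharTwo.add_self_eq_zero, h.zero]) fun e => hx (h.inj (e.trans h.zero.symm))
  have k2 : ∀ x ≠ 0, ∃ g, g * τ 1 * g⁻¹ = τ x := fun x hx => by
    obtain ⟨g, hg⟩ := hC (zpowers (τ 1)) (zpowers (τ x)) (by rw [Nat.card_zpowers, k1 1 one_ne_zero])
      (by rw [Nat.card_zpowers, k1 x hx])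
    obtain ⟨u, h4, h5⟩ := mem_cj'.1 (hg.le (mem_zpowers _))
    rcases (H11.mem_zpowers_invol (by rw [← pow_two, ← k1 1 one_ne_zero, pow_orderOf_eq_one])).1 h4 with rfl | rfl
    · exact absurd (h.inj ((by simpa using h5.symm : τ x = 1).trans h.zero.symm)) hx
    · exact ⟨g, h5⟩
  by_cases h4 : n ∣ Nat.card G
  · have h5 : 2 ^ n - 1 ∣ Nat.card G := by
      have := (stabilizer (ConjAct G) (τ 1)).index_dvd_card
      rwa [index_stabilizer, show orbit (ConjAct G) (τ 1) = τ '' {0}ᶜ from Set.ext fun y => ⟨by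
        rintro ⟨g, rfl⟩
        obtain ⟨a, σ, h5⟩ := h.semi g
        exact ⟨a * σ 1, by simpa using h.ne h5, (h5 1).symm⟩, by
        rintro ⟨x, hx, rfl⟩
        exact k2 x hx⟩, Set.ncard_image_of_injective _ h.inj, Set.ncard_compl, Set.ncard_singleton,
        Nat.card_eq_fintype_card, hF] at this
    have h6 : 2 ^ n ∣ Nat.card G := by
      rw [← hF, ← Nat.card_eq_fintype_card, Nat.card_congr (Equiv.ofBijective
        (fun x => (⟨τ x, (h.mem _).2 ⟨x, rfl⟩⟩ : P)) ⟨fun x y e => h.inj (congrArg Subtype.val e),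
        fun x => ((h.mem _).1 x.2).imp fun _ => Subtype.ext⟩)]
      exact P.card_subgroup_dvd_card
    have h7 : Nat.card (semiaffineGroup F) ≤ (2 ^ n - 1) * (2 ^ n * n) := by
      choose a b σ h7 using fun s : semiaffineGroup F => s.2
      refine (Nat.card_le_card_of_injective (fun s => (a s, b s, σ s)) fun s t e => ?_).trans (by
        rw [Nat.card_prod, Nat.card_prod, Nat.card_units, H28.card_ringAut hF, Nat.card_eq_fintype_card, hF])
      simp only [Prod.mk.injEq] at e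
      exact Subtype.ext (Equiv.ext fun x => by rw [h7, h7, e.1, e.2.1, e.2.2])
    refine .inl ⟨MulEquiv.ofBijective (f.codRestrict _ fun g => ?_) (Function.Injective.bijective_of_nat_card_le
      (fun x y e => h1 (congrArg Subtype.val e)) (h7.trans (Nat.le_of_dvd Nat.card_pos ?_)))⟩
    · obtain ⟨a, σ, h8⟩ := h.semi g
      obtain ⟨c, h9⟩ := h3 g a σ h8
      exact ⟨Units.mk0 a (h.ne h8), c, σ, h9⟩
    · rcases hn with rfl | rfl <;> omega
  have h5 : ∀ g a (σ : F ≃+* F), (∀ x, g * τ x * g⁻¹ = τ (a * σ x)) → σ = 1 := fun g a σ h5 => by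
    have h6 : ∀ i : ℕ, ∃ b, ∀ x, g ^ i * τ x * (g ^ i)⁻¹ = τ (b * (σ ^ i) x) := fun i => by
      induction i with
      | zero => exact ⟨1, by simp⟩
      | succ i ih =>
        obtain ⟨b, hb⟩ := ih
        exact ⟨a * σ b, fun x => by
          rw [pow_succ' σ, RingAut.mul_apply, mul_assoc a, ← map_mul, ← h5, ← hb]; group⟩
    obtain ⟨b, hb⟩ := h6 (Nat.card G)
    simp only [pow_card_eq_one', one_mul, inv_one, mul_one, h.inj.eq_iff] at hb
    obtain rfl : 1 = b := by simpa using hb 1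
    refine orderOf_eq_one_iff.1 (Nat.eq_one_of_dvd_coprimes ((Nat.Prime.coprime_iff_not_dvd
      (by rcases hn with rfl | rfl <;> norm_num)).2 h4) (H28.card_ringAut hF ▸ orderOf_dvd_natCard σ)
      (orderOf_dvd_of_pow_eq_one (RingEquiv.ext fun x => by simpa using (hb x).symm)))
  refine .inr ⟨⟨MulEquiv.ofBijective (f.codRestrict _ fun g => ?_)
    ⟨fun x y e => h1 (congrArg Subtype.val e), fun ⟨s, a, b, hs⟩ => ?_⟩⟩, h5⟩
  · obtain ⟨a, σ, h8⟩ := h.semi g
    obtain ⟨c, h9⟩ := h3 g a σ h8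
    exact ⟨Units.mk0 a (h.ne h8), c, by simpa [h5 g a σ h8] using h9⟩
  · obtain ⟨g, hg⟩ := k2 a a.ne_zero
    obtain ⟨a', σ, h8⟩ := h.semi g
    obtain ⟨c, h9⟩ := h3 g a' σ h8
    obtain rfl : a = a' := by simpa using h.inj (hg.symm.trans (h8 1))
    exact ⟨τ (b - c) * g, Subtype.ext (Equiv.ext fun x => by
      simp [h2, h9, hs, h5 g a σ h8]; ring)⟩

end Co

theorem aff [hp : Fact p.Prime] (P : Sylow p G) [(P : Subgroup G).Normal]
    (hP : IsElementaryAbelian p (P : Subgroup G)) {n : ℕ} (hn : 3 ≤ n) (hc : Nat.card P = p ^ n)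
    (hs : Group.IsSolvable G) (hO : pPrimeCore p G = ⊥) (hC : H25.PEq p G) :
    (n = 3 ∧ (∃ f : G →* semiaffineGroup (GaloisField p 3), Function.Injective f) ∧
      (p = 2 → Nonempty (G ≃* semiaffineGroup (GaloisField 2 3)) ∨
        Nonempty (G ≃* affineGroup (GaloisField 2 3)))) ∨
    (n = 5 ∧ p = 2 ∧ Nonempty (G ≃* semiaffineGroup (GaloisField 2 5))) := by
  have k : ∀ i (A B : Subgroup G), ♯A = p ^ i → ♯B = p ^ i → ∃ g, B = cj g A := fun i A B hA hB =>
    hC A B (.of_card hA) (.of_card hB) (hA.trans hB.symm)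
  have k1 : ∀ A B : Subgroup G, ♯A = p → ♯B = p → ∃ g, B = cj g A := by simpa using k 1
  have p2 := hp.out.two_le
  have hF := GaloisField.card p n (by omega)
  obtain ⟨τ, h⟩ := exists_co (F := GaloisField p n) hP (fun e => by
    rw [e, card_bot] at hc; exact (Nat.one_lt_pow (by omega) p2).ne hc) hs k1 (hF.trans hc.symm)
    (fun e => by
      have h1 : p ^ 3 ∣ _ := hc ▸ pow_dvd_pow p hn
      have h2 : p < 9 := lt_of_pow_lt_pow_left₀ 3 (by omega) ((Nat.le_of_dvd Nat.card_pos h1).trans_lt (by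
        simp only [Set.mem_insert_iff, Set.mem_singleton_iff] at e; omega))
      simp only [Set.mem_insert_iff, Set.mem_singleton_iff] at e
      interval_cases p <;> omega) fun e => by
      obtain rfl : p = 3 := (Nat.prime_dvd_prime_iff_eq hp.out Nat.prime_three).1
        (hp.out.dvd_of_dvd_pow (n := 4) (e ▸ hc ▸ dvd_pow_self p (by omega) : p ∣ 81))
      exact dvd13 hP e (k 2)
  obtain ⟨H, hH⟩ := exists_right_complement'_of_coprime P.card_coprime_index
  obtain ⟨f, h1, h2, h3⟩ := h.emb hH (eq_bot_iff.2 (hO ▸ H1.le_pPrimeCore (Nat.Coprime.of_dvd_left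
    (card_dvd_of_le H.normalCore_le) (hH.symm.index_eq_card ▸
      ((Nat.Prime.coprime_iff_not_dvd hp.out).2 P.not_dvd_index).symm))))
  haveI := Fintype.ofFinite (GaloisField p n)
  rw [Nat.card_eq_fintype_card] at hF
  rcases key hF τ h.add h.inj {σ | ∃ g a, ∀ x, g * τ x * g⁻¹ = τ (a * σ x)} (fun A B _ _ => k 2 A B)
    fun g c hg => by
      obtain ⟨a, σ, h4⟩ := h.semi g
      obtain rfl : c = a := by simpa using h.inj (hg.symm.trans (h4 1))
      exact ⟨σ, ⟨g, c, h4⟩, h4⟩ with h4 | ⟨rfl, rfl, h4⟩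
  · obtain rfl : n = 3 := by omega
    refine .inl ⟨rfl, ⟨f.codRestrict _ fun g => ?_, fun x y e => h1 (congrArg Subtype.val e)⟩, ?_⟩
    · obtain ⟨a, σ, h8⟩ := h.semi g
      obtain ⟨c, h9⟩ := h3 g a σ h8
      exact ⟨Units.mk0 a (h.ne h8), c, σ, h9⟩
    · rintro rfl
      exact (h.two hF (.inl rfl) k1 h1 h2 h3).imp_right And.left
  · refine .inr ⟨rfl, rfl, (h.two hF (.inr rfl) k1 h1 h2 h3).resolve_right fun ⟨_, h5⟩ => ?_⟩
    exact absurd (h4.trans ((Set.ncard_le_ncard (t := {1}) (by rintro σ ⟨g, a, h6⟩; exact h5 g a σ h6)).trans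
      (Set.ncard_singleton _).le)) (by decide)

end Cfsg.Agent.JX
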