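import Cfsg.Agent.JX.C3
import Cfsg.Agent.GW.Cor
import Cfsg.Agent.H3.Fusion

/-! Conjugacy of `p`-subgroups of equal order passes to quotients and Sylow normalizers. -/

set_option autoImplicit false

namespace Cfsg.Agent.JX

open Subgroup Cfsg.Agent.H20 Cfsg.Agent.H21 Cfsg.Agent.H25

variable {G : Type*} [Group G] [Finite G] {p : ℕ} [hp : Fact p.Prime]

theorem peq_quot (h : PEq p G) (N : Subgroup G) [N.Normal] : PEq p (G ⧸ N) := fun A B hA hB e => by
  have k : ∀ A : Subgroup (G ⧸ N), IsPGroup p A → ∀ S, H11.IsSylIn p S (A.comap (QuotientGroup.mk' N)) →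
      S.map (QuotientGroup.mk' N) = A := fun A hA S hS => by
    have h1 := GW.sylIn_map hS (QuotientGroup.mk' N)
    rw [map_comap_eq_self_of_surjective (QuotientGroup.mk'_surjective N)] at h1
    exact (h1.eq hA h1.le le_rfl).symm
  obtain ⟨S, hS⟩ := H11.exists_isSylIn p (A.comap (QuotientGroup.mk' N))
  obtain ⟨T, hT⟩ := H11.exists_isSylIn p (B.comap (QuotientGroup.mk' N))
  obtain ⟨g, rfl⟩ := h S T hS.pg hT.pg (by
    rw [hS.card_eq_pow, hT.card_eq_pow, H10.card_comap_mk', H10.card_comap_mk', e])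
  refine ⟨g, ?_⟩
  rw [← k A hA S hS, ← k B hB _ hT, cj, cj, map_map, map_map]
  rfl

theorem peq_norm (h : PEq p G) (P : Sylow p G) (hP : IsMulCommutative (P : Subgroup G)) :
    PEq p (normalizer (P : Set G)) := fun A B hA hB e => by
  have k : ∀ A : Subgroup (normalizer (P : Set G)), IsPGroup p A → A.map (Subgroup.subtype _) ≤ P :=
    fun A hA => (P.3 (IsPGroup.to_sup_of_normal_left' P.2 (hA.map _) (map_subtype_le A))
      le_sup_left).symm ▸ le_sup_right
  obtain ⟨g, hg⟩ := h _ _ (hA.map (Subgroup.subtype _)) (hB.map (Subgroup.subtype _))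
    (by rw [card_map_subtype, card_map_subtype, e])
  have k2 : ∀ A ≤ (P : Subgroup G), (P : Subgroup G) ≤ N⟦A⟧ := fun A hA =>
    ((comm_iff_le_cent.1 hP).trans (centralizer_le hA)).trans (cent_le_norm _)
  obtain ⟨c, hc, h1⟩ := H3.exists_mul_mem_normalizer P (k2 _ (k B hB)) (g := g)
    (hg ▸ norm_cj g (k2 _ (k A hA)))
  refine ⟨⟨_, h1⟩, map_injective (subtype_injective _) ?_⟩
  rw [← cj_eq_of_mem_norm hc, hg, ← cj_mul, cj, cj, map_map, map_map]
  rfl

theorem s4025 (hC : PEq p G) (P : Sylow p G) {n : ℕ} (hn : 3 ≤ n)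
    (hP : IsElementaryAbelian p (P : Subgroup G)) (hc : Nat.card P = p ^ n) {N : Subgroup G}
    (hN : N = normalizer ((P : Subgroup G) : Set G)) (hs : Group.IsSolvable (N ⧸ pPrimeCore p N)) :
    (n = 3 ∧ (∃ f : N ⧸ pPrimeCore p N →* semiaffineGroup (GaloisField p 3), Function.Injective f) ∧
      (p = 2 → Nonempty (N ⧸ pPrimeCore p N ≃* semiaffineGroup (GaloisField 2 3)) ∨
        Nonempty (N ⧸ pPrimeCore p N ≃* affineGroup (GaloisField 2 3)))) ∨
    (n = 5 ∧ p = 2 ∧ Nonempty (N ⧸ pPrimeCore p N ≃* semiaffineGroup (GaloisField 2 5))) := by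
  subst hN
  let Q := (P.subtype le_normalizer).mapSurjective (QuotientGroup.mk'_surjective (pPrimeCore p _))
  haveI : Q.1.Normal := Normal.map normal_in_normalizer _ (QuotientGroup.mk'_surjective _)
  haveI : IsMulCommutative (P.subtype le_normalizer).1 :=
    ⟨⟨fun a b => Subtype.ext (Subtype.ext (congrArg Subtype.val (hP.1.is_comm.comm ⟨_, a.2⟩ ⟨_, b.2⟩) :))⟩⟩
  refine aff Q ⟨map_isMulCommutative _ _, ?_⟩ hn ?_ hs (H10.pPrimeCore_quotient_pPrimeCore p _)
    (peq_quot (peq_norm hC P hP.1) _)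
  · rintro _ ⟨x, hx, rfl⟩
    rw [← map_pow, show x ^ p = 1 from Subtype.ext (hP.2 x hx), map_one]
  · have h1 := H10.card_map_mul_card_inf_ker (QuotientGroup.mk' (pPrimeCore p _)) (P.subtype le_normalizer).1
    rw [QuotientGroup.ker_mk', H10.disjoint_of_isPGroup_of_coprime (P.subtype le_normalizer).2
      (H10.pPrimeCore_coprime p _), card_bot, mul_one] at h1
    exact h1.trans ((Nat.card_congr (subgroupOfEquivOfLe le_normalizer).toEquiv).trans hc)

end Cfsg.Agent.JX
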